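import Mathlib
import Groth.Prelude.Def_KoszulSh
import Groth.Prelude.Def_FlatMod2
import Groth.Agent.Lib.Lead.QC.HomAffine

set_option autoImplicit false
open CategoryTheory AlgebraicGeometry Opposite TopologicalSpace exteriorPower

namespace Groth.Agent.H8.KoszMap

universe u

/-- two additive maps out of an exterior power which are semilinear for the same ring map and agree
on decomposable elements are equal. -/
theorem extPow_semilinear_ext {R R' : Type*} [CommRing R] [CommRing R'] (ρ : R →+* R')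
    {M : Type*} [AddCommGroup M] [Module R M] {N : Type*} [AddCommGroup N] [Module R' N] (p : ℕ)
    (a b : ↥(⋀[R]^p M) → N) (ha_add : ∀ x y, a (x + y) = a x + a y)
    (hb_add : ∀ x y, b (x + y) = b x + b y) (ha_smul : ∀ r x, a (r • x) = ρ r • a x)
    (hb_smul : ∀ r x, b (r • x) = ρ r • b x)
    (h : ∀ e : Fin p → M, a (ιMulti R p e) = b (ιMulti R p e)) (w : ↥(⋀[R]^p M)) : a w = b w := by
  have hw : w ∈ Submodule.span R (Set.range (ιMulti R p (M := M))) := by
    rw [exteriorPower.ιMulti_span]; trivial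
  induction hw using Submodule.span_induction with
  | mem x hx =>
    obtain ⟨e, rfl⟩ := hx
    exact h e
  | zero =>
    have h1 := ha_smul 0 0
    have h2 := hb_smul 0 0
    rw [zero_smul, map_zero, zero_smul] at h1 h2
    rw [h1, h2]
  | add x y _ _ hx hy => rw [ha_add, hb_add, hx, hy]
  | smul r x _ hx => rw [ha_smul, hb_smul, hx]

variable {X : Scheme.{u}}

/-- `φ.app U` as a linear map. -/
noncomputable def appLin {M N : X.Modules} (φ : M ⟶ N) (U : X.Opens) :
    Γ(M, U) →ₗ[Γ(X, U)] Γ(N, U) where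
  toFun := φ.app U
  map_add' := map_add _
  map_smul' r x := Scheme.Modules.Hom.app_smul φ r x

theorem appLin_apply {M N : X.Modules} (φ : M ⟶ N) (U : X.Opens) (x : Γ(M, U)) :
    appLin φ U x = φ.app U x := rfl

theorem app_res {M N : X.Modules} (φ : M ⟶ N) {U V : X.Opens} (h : V ≤ U) (s : Γ(M, U)) :
    φ.app V (M.presheaf.map (homOfLE h).op s) = N.presheaf.map (homOfLE h).op (φ.app U s) := by
  have := φ.mapPresheaf.naturality (homOfLE h).op
  exact congr($this s)

variable {E F : X.Modules} {s : E ⟶ Coh.structureModule X} {t : F ⟶ Coh.structureModule X}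

/-- the affine-local component of the map of Koszul complexes. -/
noncomputable def compLin (C : KoszSh.Cx E s) (D : KoszSh.Cx F t) (f : E ⟶ F) (p : ℕ)
    (U : X.affineOpens) : Γ(C.K.X p, U.1) →ₗ[Γ(X, U.1)] Γ(D.K.X p, U.1) :=
  ((D.loc p U).symm.toLinearMap.comp (exteriorPower.map p (appLin f U.1))).comp
    (C.loc p U).toLinearMap

theorem compLin_apply (C : KoszSh.Cx E s) (D : KoszSh.Cx F t) (f : E ⟶ F) (p : ℕ)
    (U : X.affineOpens) (x : Γ(C.K.X p, U.1)) :
    compLin C D f p U x = (D.loc p U).symm (exteriorPower.map p (appLin f U.1) (C.loc p U x)) :=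
  rfl

theorem compLin_symm (C : KoszSh.Cx E s) (D : KoszSh.Cx F t) (f : E ⟶ F) (p : ℕ)
    (U : X.affineOpens) (w : ↥(⋀[Γ(X, U.1)]^p Γ(E, U.1))) :
    compLin C D f p U ((C.loc p U).symm w) =
      (D.loc p U).symm (exteriorPower.map p (appLin f U.1) w) := by
  rw [compLin_apply, LinearEquiv.apply_symm_apply]

theorem compLin_ιMulti (C : KoszSh.Cx E s) (D : KoszSh.Cx F t) (f : E ⟶ F) (p : ℕ)
    (U : X.affineOpens) (e : Fin p → Γ(E, U.1)) :
    compLin C D f p U ((C.loc p U).symm (ιMulti _ p e)) =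
      (D.loc p U).symm (ιMulti _ p (fun j => f.app U.1 (e j))) := by
  rw [compLin_symm, exteriorPower.map_apply_ιMulti]
  rfl

theorem compLin_nat (C : KoszSh.Cx E s) (D : KoszSh.Cx F t) (f : E ⟶ F) (p : ℕ)
    (U V : X.affineOpens) (h : V.1 ≤ U.1) (x : Γ(C.K.X p, U.1)) :
    (D.K.X p).presheaf.map (homOfLE h).op (compLin C D f p U x) =
      compLin C D f p V ((C.K.X p).presheaf.map (homOfLE h).op x) := by
  obtain ⟨w, rfl⟩ : ∃ w, x = (C.loc p U).symm w := ⟨C.loc p U x, (LinearEquiv.symm_apply_apply _ _).symm⟩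
  refine extPow_semilinear_ext (X.presheaf.map (homOfLE h).op).hom p
    (fun w => (D.K.X p).presheaf.map (homOfLE h).op (compLin C D f p U ((C.loc p U).symm w)))
    (fun w => compLin C D f p V ((C.K.X p).presheaf.map (homOfLE h).op ((C.loc p U).symm w)))
    (fun x y => ?_) (fun x y => ?_) (fun r x => ?_) (fun r x => ?_) (fun e => ?_) w
  · simp only [map_add]
  · simp only [map_add]
  · simp only [map_smul]
    exact Scheme.Modules.map_smul (D.K.X p) (homOfLE h) r _
  · simp only [map_smul]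
    rw [Scheme.Modules.map_smul (C.K.X p) (homOfLE h) r _, map_smul]
  · show (D.K.X p).presheaf.map (homOfLE h).op (compLin C D f p U ((C.loc p U).symm (ιMulti _ p e))) =
      compLin C D f p V ((C.K.X p).presheaf.map (homOfLE h).op ((C.loc p U).symm (ιMulti _ p e)))
    rw [compLin_ιMulti]
    have h1 := D.loc_res p U V h (fun j => f.app U.1 (e j))
    have h2 := C.loc_res p U V h e
    have h1' : (D.K.X p).presheaf.map (homOfLE h).op
        ((D.loc p U).symm (ιMulti _ p (fun j => f.app U.1 (e j)))) =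
        (D.loc p V).symm (ιMulti _ p (fun j => F.val.map (homOfLE h).op (f.app U.1 (e j)))) := h1
    have h2' : (C.K.X p).presheaf.map (homOfLE h).op ((C.loc p U).symm (ιMulti _ p e)) =
        (C.loc p V).symm (ιMulti _ p (fun j => E.val.map (homOfLE h).op (e j))) := h2
    rw [h1', h2', compLin_ιMulti]
    congr 2
    funext j
    exact (app_res f h (e j)).symm

/-- compatibility of `dGen` with a linear map commuting with the forms. -/
theorem map_dGen {R : Type*} [CommRing R] {M N : Type*} [AddCommGroup M] [Module R M]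
    [AddCommGroup N] [Module R N] (g : M →ₗ[R] N) (φ : M →ₗ[R] R) (ψ : N →ₗ[R] R)
    (hg : ∀ m, ψ (g m) = φ m) (p : ℕ) (e : Fin (p + 1) → M) :
    exteriorPower.map p g (KoszSh.dGen φ p e) = KoszSh.dGen ψ p (fun j => g (e j)) := by
  unfold KoszSh.dGen
  rw [map_sum]
  refine Finset.sum_congr rfl (fun i _ => ?_)
  rw [map_smul, exteriorPower.map_apply_ιMulti, hg]
  rfl

theorem secForm_comp (f : E ⟶ F) (hf : f ≫ t = s) (U : X.Opens) (m : Γ(E, U)) :
    KoszSh.secForm t U (appLin f U m) = KoszSh.secForm s U m := by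
  subst hf
  rfl

/-- the components of the map of Koszul complexes. -/
noncomputable def comp (C : KoszSh.Cx E s) (D : KoszSh.Cx F t) (f : E ⟶ F) (p : ℕ) :
    C.K.X p ⟶ D.K.X p :=
  Groth.Agent.LD.QC.homOfAffine (C.K.X p) (D.K.X p) (compLin C D f p) (compLin_nat C D f p)

theorem comp_app (C : KoszSh.Cx E s) (D : KoszSh.Cx F t) (f : E ⟶ F) (p : ℕ)
    (U : X.affineOpens) (x : Γ(C.K.X p, U.1)) :
    (comp C D f p).app U.1 x = compLin C D f p U x :=
  Groth.Agent.LD.QC.homOfAffine_app _ _ _ _ U x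

theorem comp_comm (C : KoszSh.Cx E s) (D : KoszSh.Cx F t) (f : E ⟶ F) (hf : f ≫ t = s) (j : ℕ) :
    comp C D f (j + 1) ≫ D.K.d (j + 1) j = C.K.d (j + 1) j ≫ comp C D f j := by
  apply Groth.Agent.LD.QC.hom_ext_affine
  intro U x
  obtain ⟨w, rfl⟩ : ∃ w, x = (C.loc (j + 1) U).symm w :=
    ⟨C.loc (j + 1) U x, (LinearEquiv.symm_apply_apply _ _).symm⟩
  show (D.K.d (j + 1) j).app U.1 ((comp C D f (j + 1)).app U.1 ((C.loc (j + 1) U).symm w)) =
    (comp C D f j).app U.1 ((C.K.d (j + 1) j).app U.1 ((C.loc (j + 1) U).symm w))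
  refine extPow_semilinear_ext (RingHom.id Γ(X, U.1)) (j + 1)
    (fun w => (D.K.d (j + 1) j).app U.1
      ((comp C D f (j + 1)).app U.1 ((C.loc (j + 1) U).symm w)))
    (fun w => (comp C D f j).app U.1
      ((C.K.d (j + 1) j).app U.1 ((C.loc (j + 1) U).symm w)))
    (fun x y => ?_) (fun x y => ?_) (fun r x => ?_) (fun r x => ?_) (fun e => ?_) w
  · simp only [map_add]
  · simp only [map_add]
  · simp only [map_smul, Scheme.Modules.Hom.app_smul, RingHom.id_apply]
  · simp only [map_smul, Scheme.Modules.Hom.app_smul, RingHom.id_apply]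
  · show (D.K.d (j + 1) j).app U.1
        ((comp C D f (j + 1)).app U.1 ((C.loc (j + 1) U).symm (ιMulti _ (j + 1) e))) =
      (comp C D f j).app U.1
        ((C.K.d (j + 1) j).app U.1 ((C.loc (j + 1) U).symm (ιMulti _ (j + 1) e)))
    rw [comp_app, compLin_ιMulti, D.rule, C.rule, comp_app, compLin_symm,
      map_dGen (appLin f U.1) (KoszSh.secForm s U.1) (KoszSh.secForm t U.1)
        (fun m => secForm_comp f hf U.1 m)]
    rfl

/-- the map of Koszul complexes induced by a map of modules compatible with the cosections. -/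
noncomputable def chainMap (C : KoszSh.Cx E s) (D : KoszSh.Cx F t) (f : E ⟶ F) (hf : f ≫ t = s) :
    C.K ⟶ D.K where
  f := comp C D f
  comm' i j hij := by
    have : j + 1 = i := hij
    subst this
    exact comp_comm C D f hf j

theorem existsUnique_chainMap (C : KoszSh.Cx E s) (D : KoszSh.Cx F t) (f : E ⟶ F)
    (hf : f ≫ t = s) :
    ∃! φ : C.K ⟶ D.K, ∀ (p : ℕ) (U : X.affineOpens) (e : Fin p → Γ(E, U.1)),
      (φ.f p).app U.1 ((C.loc p U).symm (exteriorPower.ιMulti _ p e)) =
        (D.loc p U).symm (exteriorPower.ιMulti _ p (fun j => f.app U.1 (e j))) := by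
  refine ⟨chainMap C D f hf, fun p U e => ?_, fun ψ hψ => ?_⟩
  · show (comp C D f p).app U.1 _ = _
    rw [comp_app, compLin_ιMulti]
  · apply HomologicalComplex.hom_ext
    intro p
    apply Groth.Agent.LD.QC.hom_ext_affine
    intro U x
    obtain ⟨w, rfl⟩ : ∃ w, x = (C.loc p U).symm w :=
      ⟨C.loc p U x, (LinearEquiv.symm_apply_apply _ _).symm⟩
    refine extPow_semilinear_ext (RingHom.id Γ(X, U.1)) p
      (fun w => (ψ.f p).app U.1 ((C.loc p U).symm w))
      (fun w => ((chainMap C D f hf).f p).app U.1 ((C.loc p U).symm w))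
      (fun x y => ?_) (fun x y => ?_) (fun r x => ?_) (fun r x => ?_) (fun e => ?_) w
    · simp only [map_add]
    · simp only [map_add]
    · simp only [map_smul, Scheme.Modules.Hom.app_smul, RingHom.id_apply]
    · simp only [map_smul, Scheme.Modules.Hom.app_smul, RingHom.id_apply]
    · show (ψ.f p).app U.1 ((C.loc p U).symm (ιMulti _ p e)) =
        (comp C D f p).app U.1 ((C.loc p U).symm (ιMulti _ p e))
      rw [hψ, comp_app, compLin_ιMulti]

end Groth.Agent.H8.KoszMap
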